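import Cfsg.Agent.H80.PB.TitsLineData
import Cfsg.Agent.Lib.BitNetSimple
import Cfsg.Agent.SporadicB.RuTitsData

/-!
# The oriented lines of the generalized octagon of the Tits group: the checks (definitions)
-/

set_option autoImplicit false

namespace Cfsg.Agent.H80.PB.TitsLine

open Cfsg.Agent.Lib.BitNet Cfsg.Agent.Lib.BitNetSimple Cfsg.Agent.SporadicB.RuTitsData
open Cfsg.Agent.H80.PB.TitsLineData

/-- the point number `s` (mod 3) of the oriented line `i` -/
def t (i s : ℕ) : ℕ :=
  Nat.land (Nat.shiftRight tab (Nat.add (Nat.mul 36 (Nat.div i 2))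
    (Nat.mul 12 (Nat.mod (Nat.mul s (Nat.add 1 (Nat.mod i 2))) 3)))) 4095

/-- all numbers in an interval of length `2 ^ k` -/
noncomputable def allF (f : ℕ → Bool) (k : ℕ) : ℕ → Bool :=
  Nat.rec (fun s => f s) (fun k ih s => ih s && force (Nat.add s (Nat.pow 2 k)) ih) k

theorem allF_spec (f : ℕ → Bool) : ∀ (k s : ℕ), allF f k s = true → ∀ i, s ≤ i → i < s + 2 ^ k → f i = true
  | 0, s, h, i, h1, h2 => by
    have : i = s := by omega
    subst this
    exact h
  | k + 1, s, h, i, h1, h2 => by
    have e : allF f (k + 1) s = (allF f k s && force (s + 2 ^ k) (allF f k)) := rfl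
    rw [e, force_eq, Bool.and_eq_true] at h
    rcases lt_or_ge i (s + 2 ^ k) with h3 | h3
    · exact allF_spec f k s h.1 i h1 h3
    · refine allF_spec f k (s + 2 ^ k) h.2 i h3 ?_
      rw [pow_succ] at h2
      omega

def eq3 (a b c j e : ℕ) : Bool :=
  Nat.beq a (t j e) && (Nat.beq b (t j (Nat.add e 1)) && Nat.beq c (t j (Nat.add e 2)))

/-- The network `x` maps the oriented line `2 k` to the oriented line `y (2 k)`, and `y (2 k + 1)` is the opposite of
`y (2 k)`. -/
noncomputable def rot (x y : List (ℕ × ℕ)) (k : ℕ) : Bool :=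
  bif Nat.blt k 2925 then
    force (Nat.mul 2 k) fun i => force (appF y i) fun j => force (appF y (Nat.succ i)) fun j' =>
      (Nat.beq (Nat.div j 2) (Nat.div j' 2) && Nat.beq (Nat.add (Nat.mod j 2) (Nat.mod j' 2)) 1) &&
        (force (appF x (t i 0)) fun a => force (appF x (t i 1)) fun b =>
          force (appF x (t i 2)) fun c => eq3 a b c j 0 || (eq3 a b c j 1 || eq3 a b c j 2))
  else true

end Cfsg.Agent.H80.PB.TitsLine
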