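import Cfsg.Agent.H80.PB.TitsLineBase

/-!
# The network `y1` describes the action of `x1` on the oriented lines.
-/

set_option autoImplicit false
set_option maxRecDepth 100000
set_option exponentiation.threshold 9000

namespace Cfsg.Agent.H80.PB.TitsLine

open Cfsg.Agent.SporadicB.RuTitsData Cfsg.Agent.H80.PB.TitsLineData

theorem rot1 : allF (rot x1 y1) 12 0 = true := by decide +kernel

end Cfsg.Agent.H80.PB.TitsLine
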