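import Cfsg.Agent.H80.PB.TitsLineBase

/-!
# The oriented lines of the generalized octagon of the Tits group: orbits (checks)

`k0`, `k1` : generators of the stabilizer of the oriented line `0`; `cm` : its orbits; `ep`, `em` : the positive and the
negative opposite oriented lines; `gw i` : a word mapping `0` to the representative `ri i` of the class `i`.
-/

set_option autoImplicit false
set_option maxRecDepth 100000
set_option exponentiation.threshold 9000

namespace Cfsg.Agent.H80.PB.TitsLine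

open Cfsg.Agent.Lib.BitNet Cfsg.Agent.Lib.BitNetSimple Cfsg.Agent.H80.PB.TitsLineData

/-! ### the table -/

theorem tab_ok : allF (fun k => bif Nat.blt k 2925 then
    force (Nat.mul 2 k) (fun i => Nat.blt (t i 0) (t i 1) && (Nat.blt (t i 1) (t i 2) && Nat.blt (t i 2) 4060))
    else true) 12 0 = true := by decide +kernel

/-- the code of a line -/
def cd (k : ℕ) : ℕ :=
  Nat.add (t (Nat.mul 2 k) 0) (Nat.mul 4096 (Nat.add (t (Nat.mul 2 k) 1) (Nat.mul 4096 (t (Nat.mul 2 k) 2))))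

theorem tab_mono : allF (fun k => bif Nat.blt k 2924 then Nat.blt (cd k) (cd (Nat.succ k)) else true) 12 0 = true := by
  decide +kernel

/-! ### networks -/

theorem yok0 : OkNet 5850 y0 := okNet_sound (by decide +kernel)
theorem yok1 : OkNet 5850 y1 := okNet_sound (by decide +kernel)

/-- words in two networks and their inverses -/
def wd (a b : List (ℕ × ℕ)) : List ℕ → List (ℕ × ℕ)
  | [] => []
  | x :: l => (match x with
      | 0 => a
      | 1 => b
      | 2 => a.reverse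
      | _ => b.reverse) ++ wd a b l

theorem orbT : Nat.ble 5850 (popc 13 (iterF [y0, y1] 11 (Nat.pow 2 0))) = true := by decide +kernel

def k0 : List (ℕ × ℕ) := wd y0 y1 [0, 0, 0, 0, 0, 1, 1, 1, 0, 1]
def k1 : List (ℕ × ℕ) := wd y0 y1 [0, 0, 3, 2, 1, 0, 3, 0, 3, 0]
def k3 : List (ℕ × ℕ) := wd k0 k1 [0, 3, 0, 0, 1, 0, 1, 2, 3, 2, 3, 2, 1]

theorem kfix0 : Nat.beq (appF k0 0) 0 = true := by decide +kernel
theorem kfix1 : Nat.beq (appF k1 0) 0 = true := by decide +kernel
theorem kfix3 : Nat.beq (appF k3 619) 619 = true := by decide +kernel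

theorem orbK : Nat.ble 1536 (popc 13 (iterF [k0, k1] 13 (Nat.pow 2 619))) = true := by decide +kernel
theorem orbK3 : Nat.ble 2 (popc 13 (iterF [k3] 1 (Nat.pow 2 2))) = true := by decide +kernel

/-! ### the classes -/

/-- the masks of the classes -/
def cm : Fin 9 → ℕ := ![1, 2, m2, m3, m4, m5, m6, m7, m8]

/-- their sizes -/
def kk : Fin 9 → ℕ := ![1, 1, 24, 192, 1024, 1024, 1024, 1024, 1536]

/-- the representatives -/
def ri : Fin 9 → ℕ := ![0, 1, 745, 3245, 686, 2391, 2308, 1964, 619]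

theorem cm_card : ∀ i, Nat.beq (popc 13 (cm i)) (kk i) = true := by decide +kernel

theorem cm_lt : ∀ i, Nat.blt (cm i) (Nat.pow 2 5850) = true := by decide +kernel

theorem cm_inv0 : ∀ i, Nat.beq (appMF k0 (cm i)) (cm i) = true := by decide +kernel
theorem cm_inv1 : ∀ i, Nat.beq (appMF k1 (cm i)) (cm i) = true := by decide +kernel

theorem cm_disj : ∀ i j, i = j ∨ Nat.beq (Nat.land (cm i) (cm j)) 0 = true := by decide +kernel

theorem cm_cover : Nat.beq ([cm 1, cm 2, cm 3, cm 4, cm 5, cm 6, cm 7, cm 8].foldl Nat.lor (cm 0))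
    (Nat.pow 2 5850 - 1) = true := by decide +kernel

theorem ri_lt : ∀ i, ri i < 5850 := by decide

theorem orb0 : Nat.beq (iterF [k0, k1] 0 (Nat.pow 2 0)) 1 = true := by decide +kernel
theorem orb1 : Nat.beq (iterF [k0, k1] 0 (Nat.pow 2 1)) 2 = true := by decide +kernel
theorem orb2 : Nat.beq (iterF [k0, k1] 4 (Nat.pow 2 745)) m2 = true := by decide +kernel
theorem orb3 : Nat.beq (iterF [k0, k1] 8 (Nat.pow 2 3245)) m3 = true := by decide +kernel
theorem orb4 : Nat.beq (iterF [k0, k1] 11 (Nat.pow 2 686)) m4 = true := by decide +kernel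
theorem orb5 : Nat.beq (iterF [k0, k1] 12 (Nat.pow 2 2391)) m5 = true := by decide +kernel
theorem orb6 : Nat.beq (iterF [k0, k1] 11 (Nat.pow 2 2308)) m6 = true := by decide +kernel
theorem orb7 : Nat.beq (iterF [k0, k1] 12 (Nat.pow 2 1964)) m7 = true := by decide +kernel
theorem orb8 : Nat.beq (iterF [k0, k1] 13 (Nat.pow 2 619)) m8 = true := by decide +kernel

theorem orb_i (i : Fin 9) : ∃ k, Nat.beq (iterF [k0, k1] k (Nat.pow 2 (ri i))) (cm i) = true := by
  fin_cases i
  · exact ⟨0, orb0⟩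
  · exact ⟨0, orb1⟩
  · exact ⟨4, orb2⟩
  · exact ⟨8, orb3⟩
  · exact ⟨11, orb4⟩
  · exact ⟨12, orb5⟩
  · exact ⟨11, orb6⟩
  · exact ⟨12, orb7⟩
  · exact ⟨13, orb8⟩

/-! ### the kernel -/

/-- the positive opposite oriented lines of `0` -/
def ep : ℕ := Nat.lor m4 m7
/-- the negative opposite oriented lines of `0` -/
def em : ℕ := Nat.lor m5 m6

/-- the words of the representatives -/
def gl : Fin 9 → List ℕ := ![[], [0, 0, 1, 2, 3, 3], [0, 0, 0, 0, 3, 0, 0], [3, 0, 1], [1, 0], [1], [0, 1, 2], [0, 0], [2]]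

def gw (i : Fin 9) : List (ℕ × ℕ) := wd y0 y1 (gl i)

theorem gw_ri : ∀ i, Nat.beq (appF (gw i) 0) (ri i) = true := by decide +kernel

def Bp : Fin 9 → Fin 9 → ℕ := ![![0, 0, 0, 0, 1024, 0, 0, 1024, 0], ![0, 0, 0, 0, 0, 1024, 1024, 0, 0],
  ![0, 0, 0, 0, 384, 384, 384, 384, 512], ![0, 0, 0, 64, 352, 352, 352, 352, 576],
  ![1, 0, 9, 66, 336, 384, 388, 324, 540], ![0, 1, 9, 66, 384, 336, 324, 388, 540],
  ![0, 1, 9, 66, 388, 324, 336, 384, 540], ![1, 0, 9, 66, 324, 388, 384, 336, 540],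
  ![0, 0, 8, 72, 360, 360, 360, 360, 528]]

def Bm : Fin 9 → Fin 9 → ℕ := ![![0, 0, 0, 0, 0, 1024, 1024, 0, 0], ![0, 0, 0, 0, 1024, 0, 0, 1024, 0],
  ![0, 0, 0, 0, 384, 384, 384, 384, 512], ![0, 0, 0, 64, 352, 352, 352, 352, 576],
  ![0, 1, 9, 66, 384, 336, 324, 388, 540], ![1, 0, 9, 66, 336, 384, 388, 324, 540],
  ![1, 0, 9, 66, 324, 388, 384, 336, 540], ![0, 1, 9, 66, 388, 324, 336, 384, 540],
  ![0, 0, 8, 72, 360, 360, 360, 360, 528]]

theorem cntp : ∀ i j, Nat.beq (popc 13 (Nat.land (appMF (gw i) ep) (cm j))) (Bp i j) = true := by decide +kernel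
theorem cntm : ∀ i j, Nat.beq (popc 13 (Nat.land (appMF (gw i) em) (cm j))) (Bm i j) = true := by decide +kernel

end Cfsg.Agent.H80.PB.TitsLine
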